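import Groth.Prelude.Def_QuotSh
import Groth.Agent.GrpQGraph.Cover
import Mathlib.AlgebraicGeometry.Sites.Fpqc
import Mathlib.CategoryTheory.Monoidal.Cartesian.Over

/-!
# fpqc coverings of schemes over a base: gluing morphisms
-/

universe w u

open CategoryTheory CategoryTheory.Limits AlgebraicGeometry MonoidalCategory CartesianMonoidalCategory

set_option autoImplicit false
set_option linter.style.haveILetI false
set_option backward.isDefEq.respectTransparency false
set_option backward.isDefEq.respectTransparency.types false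

namespace Groth.Agent.QuotFpqc

variable {S : Scheme.{u}}

theorem isPullback_left {A B C D : Over S} {a : A ⟶ B} {b : A ⟶ C} {c : B ⟶ D} {d : C ⟶ D}
    (h : IsPullback a b c d) : IsPullback a.left b.left c.left d.left :=
  h.map (Over.forget S)

/-- An fpqc covering family of a scheme over `S`. -/
def Cov {T : Over S} {ι : Type u} {Ti : ι → Over S} (c : ∀ i, Ti i ⟶ T) : Prop :=
  Presieve.ofArrows (fun i => (Ti i).left) (fun i => (c i).left) ∈ Scheme.fpqcPrecoverage T.left

namespace Cov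

variable {T : Over S} {ι : Type u} {Ti : ι → Over S} {c : ∀ i, Ti i ⟶ T}

theorem bc (h : Cov c) {T' : Over S} (f : T' ⟶ T) {Ti' : ι → Over S} (c' : ∀ i, Ti' i ⟶ T')
    (q : ∀ i, Ti' i ⟶ Ti i) (sq : ∀ i, IsPullback (c' i) (q i) f (c i)) : Cov c' :=
  Precoverage.mem_coverings_of_isPullback (J := Scheme.fpqcPrecoverage) (fun i => (c i).left) h f.left _
    (fun i => (q i).left) fun i => isPullback_left (sq i)

theorem pullback_fst (h : Cov c) {T' : Over S} (f : T' ⟶ T) : Cov (fun i => pullback.fst f (c i)) :=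
  h.bc f _ _ fun _ => IsPullback.of_hasPullback _ _

theorem isSheafFor (h : Cov c) (Z : Scheme.{u}) :
    Presieve.IsSheafFor (yoneda.obj Z) (Presieve.ofArrows (fun i => (Ti i).left) fun i => (c i).left) :=
  (Presieve.isSheafFor_iff_generate _).2
    (GrothendieckTopology.Subcanonical.isSheaf_of_isRepresentable (J := Scheme.fpqcTopology) (yoneda.obj Z) _
      (Precoverage.generate_mem_toGrothendieck h))

theorem hom_ext (h : Cov c) {Z : Over S} {f g : T ⟶ Z} (e : ∀ i, c i ≫ f = c i ≫ g) : f = g := by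
  refine Over.OverMorphism.ext ((h.isSheafFor Z.left).isSeparatedFor.ext ?_)
  rintro _ _ ⟨i⟩
  exact congrArg CommaMorphism.left (e i)

theorem exists_desc (h : Cov c) {Z : Over S} (f : ∀ i, Ti i ⟶ Z)
    (hf : ∀ i j (W : Over S) (a : W ⟶ Ti i) (b : W ⟶ Ti j), a ≫ c i = b ≫ c j → a ≫ f i = b ≫ f j) :
    ∃ g : T ⟶ Z, ∀ i, c i ≫ g = f i := by
  obtain ⟨g, hg, -⟩ := (Presieve.isSheafFor_arrows_iff _ _).1 (h.isSheafFor Z.left) (fun i => (f i).left) (by
    intro i j W gi gj e
    let W' : Over S := Over.mk (gi ≫ (Ti i).hom)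
    have hw : gj ≫ (Ti j).hom = gi ≫ (Ti i).hom := by
      rw [← Over.w (c i), ← Over.w (c j), reassoc_of% e]
    let a : W' ⟶ Ti i := Over.homMk gi rfl
    let b : W' ⟶ Ti j := Over.homMk gj hw
    exact congrArg CommaMorphism.left (hf i j W' a b (Over.OverMorphism.ext e)))
  have hg' : ∀ i, (c i).left ≫ g = (f i).left := hg
  have hw : g ≫ Z.hom = T.hom := by
    refine (h.isSheafFor S).isSeparatedFor.ext ?_
    rintro _ _ ⟨i⟩
    show (c i).left ≫ g ≫ Z.hom = (c i).left ≫ T.hom
    rw [reassoc_of% (hg' i), Over.w, Over.w]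
  exact ⟨Over.homMk g hw, fun i => Over.OverMorphism.ext (hg' i)⟩

end Cov

/-- An fpqc covering sieve contains a small covering family. -/
theorem exists_cov_of_mem {U : Over S} {R : Sieve U} (hR : R ∈ QuotSh.J Scheme.fpqcPrecoverage S U) :
    ∃ (ι : Type u) (V : ι → Over S) (v : ∀ i, V i ⟶ U), Cov v ∧ ∀ i, R (v i) := by
  rw [GrothendieckTopology.mem_over_iff] at hR
  obtain ⟨ι, X, g, hg, hgR⟩ := GrpQGraph.exists_small_cover _ hR
  exact ⟨ι, fun i => Over.mk (g i ≫ U.hom), fun i => Over.homMk (g i) rfl, hg,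
    fun i => (Sieve.overEquiv_iff R (g i)).1 (hgR i)⟩

end Groth.Agent.QuotFpqc
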