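import Groth.Agent.QuotFpqc.Glued
import Groth.Agent.DescLib.IndQAEff
import Groth.Agent.SchTorsor.Props

/-!
# Gluing the total spaces of torsors along an fpqc covering
-/

set_option autoImplicit false
set_option backward.isDefEq.respectTransparency false
set_option backward.isDefEq.respectTransparency.types false
set_option linter.style.haveILetI false

universe u

open CategoryTheory CategoryTheory.Functor CategoryTheory.Limits MonoidalCategory CartesianMonoidalCategory
open Opposite AlgebraicGeometry Groth.Agent.FibBase Groth.Agent.StkLib Groth.Agent.AlgStLib Groth.Agent.QuotLib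

namespace Groth.Agent.QuotFpqc

variable {S : Scheme.{u}} {G : Over S} [GrpObj G] {X : Over S} {aX : AlgGrp.Action G X}

local notation "Kq" => Scheme.fpqcPrecoverage

/-- Torsors under an affine group are affine over their bases. -/
theorem isAffineHom_π [IsAffineHom G.hom] (A : AlgSt.QuotObj Kq G aX) : IsAffineHom A.π.left := by
  obtain ⟨Rv, hR, hsec⟩ := A.loc
  obtain ⟨ι, V, g, hg, hgR⟩ := GrpQGraph.exists_small_cover (Sieve.generate Rv)
    (Precoverage.generate_mem_toGrothendieck hR)
  haveI := EtFound.fpqc_isAffineHom.{u}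
  refine GrpQGraph.property_of_fpqc_family @IsAffineHom hg _ fun i => ?_
  obtain ⟨Y, h, r, hr, e⟩ := hgR i
  obtain ⟨s, hs⟩ := hsec r hr
  have hs' : (h ≫ s) ≫ A.π.left = g i := by
    rw [Category.assoc, ← e]
    exact congrArg (h ≫ ·) hs
  let T : Over S := Over.mk (g i ≫ A.base.hom)
  let b : T ⟶ A.P := Over.homMk (h ≫ s) (by
    show (h ≫ s) ≫ A.P.hom = g i ≫ A.base.hom
    rw [← Over.w A.π, ← Category.assoc, hs'])
  have sq : IsPullback ((G ◁ b) ≫ A.act.act) (snd G T) A.π (b ≫ A.π) :=
    (AlgSt.isPullback_whiskerLeft b).paste_horiz A.cart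
  have hu : (toUnit T).left = T.hom := by simpa using Over.w (toUnit T)
  have haff : IsAffineHom (snd G T).left := by
    have h1 := isPullback_left (AlgSt.isPullback_fst_snd G T)
    have : IsAffineHom (toUnit G).left := by
      rw [show (toUnit G).left = G.hom by simpa using Over.w (toUnit G)]; infer_instance
    exact MorphismProperty.of_isPullback h1 this
  have sq' := isPullback_left sq
  rw [show (b ≫ A.π).left = g i from hs'] at sq'
  rw [← MorphismProperty.cancel_left_of_respectsIso @IsAffineHom sq'.isoPullback.hom,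
    IsPullback.isoPullback_hom_snd]
  exact haff

variable {U : Over S} {R : Sieve U} (H : Stk.sieveCat R ⥤ᵇ AlgSt.QuotSt Kq G aX)

section Trans

variable {T : Scheme.{u}} {a b d : (Stk.sieveCat R).obj}

/-- The structure of `T` over `S` induced by a point of a torsor. -/
abbrev ovOf (x : T ⟶ (H.obj a).P.left) : Over S := Over.mk (x ≫ (H.obj a).P.hom)

/-- A point of a torsor as a morphism over `S`. -/
abbrev hatOf (x : T ⟶ (H.obj a).P.left) : ovOf H x ⟶ (H.obj a).P := Over.homMk x rfl

/-- The object of the sieve under a point. -/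
noncomputable abbrev cOf (x : T ⟶ (H.obj a).P.left) : (Stk.sieveCat R).obj :=
  ob ((hatOf H x ≫ prj H a) ≫ a.obj.hom) (R.downward_closed a.property _)

/-- The arrow to the first object. -/
noncomputable abbrev kOf (x : T ⟶ (H.obj a).P.left) : cOf H x ⟶ a :=
  arr (a := cOf H x) (b := a) (hatOf H x ≫ prj H a) rfl

/-- The tautological lift of a point. -/
noncomputable def zOf (x : T ⟶ (H.obj a).P.left) : T ⟶ (H.obj (cOf H x)).P.left :=
  ((isPullback_prj H (kOf H x)).lift (hatOf H x) (𝟙 (ovOf H x))
    (Category.id_comp _).symm).left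

/-- Two points over the same point of `U`. -/
def Over2 (x : T ⟶ (H.obj a).P.left) (l : T ⟶ b.obj.left.left) : Prop :=
  l ≫ b.obj.hom.left = x ≫ (prj H a).left ≫ a.obj.hom.left

variable {H}

theorem Over2.w {x : T ⟶ (H.obj a).P.left} {l : T ⟶ b.obj.left.left} (h : Over2 H x l) :
    l ≫ b.obj.left.hom = x ≫ (H.obj a).P.hom := by
  rw [← Over.w b.obj.hom, reassoc_of% h]
  exact congrArg (x ≫ ·) ((congrArg (_ ≫ ·) (Over.w a.obj.hom)).trans (Over.w (prj H a)))

/-- The arrow to the second object. -/
noncomputable abbrev arrTo {x : T ⟶ (H.obj a).P.left} {l : T ⟶ b.obj.left.left} (h : Over2 H x l) :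
    cOf H x ⟶ b :=
  arr (Over.homMk l h.w) (Over.OverMorphism.ext (h.trans (Category.assoc _ _ _).symm))

/-- Transport of a point of a torsor to another member of the family. -/
noncomputable def trans {x : T ⟶ (H.obj a).P.left} {l : T ⟶ b.obj.left.left} (h : Over2 H x l) :
    T ⟶ (H.obj b).P.left :=
  zOf H x ≫ (H.map (arrTo h)).top.left

theorem zOf_top (x : T ⟶ (H.obj a).P.left) :
    zOf H x ≫ (H.map (kOf H x)).top.left = x := by
  exact congrArg CommaMorphism.left
    (IsPullback.lift_fst (isPullback_prj H (kOf H x)) (hatOf H x) (𝟙 (ovOf H x)) (Category.id_comp _).symm)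

theorem zOf_prj (x : T ⟶ (H.obj a).P.left) : zOf H x ≫ (prj H (cOf H x)).left = 𝟙 T :=
  congrArg CommaMorphism.left
    (IsPullback.lift_snd (isPullback_prj H (kOf H x)) (hatOf H x) (𝟙 (ovOf H x)) (Category.id_comp _).symm)

theorem trans_prj {x : T ⟶ (H.obj a).P.left} {l : T ⟶ b.obj.left.left} (h : Over2 H x l) :
    trans h ≫ (prj H b).left = l := by
  rw [trans, Category.assoc, ← Over.comp_left, (isPullback_prj H _).w, Over.comp_left, reassoc_of% zOf_prj x]
  rfl

theorem trans_eq {c : (Stk.sieveCat R).obj} (φ : c ⟶ a) (ψ : c ⟶ b) (z : T ⟶ (H.obj c).P.left)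
    {x : T ⟶ (H.obj a).P.left} {l : T ⟶ b.obj.left.left} (h : Over2 H x l)
    (hx : z ≫ (H.map φ).top.left = x) (hl : z ≫ (prj H c).left ≫ ψ.hom.left.left = l) :
    trans h = z ≫ (H.map ψ).top.left := by
  have hzw : (z ≫ (prj H c).left) ≫ c.obj.left.hom = x ≫ (H.obj a).P.hom := by
    rw [Category.assoc, Over.w, ← hx, Category.assoc, Over.w]
  let m : cOf H x ⟶ c := arr (Over.homMk (z ≫ (prj H c).left) hzw) (Over.OverMorphism.ext (by
    show (z ≫ (prj H c).left) ≫ c.obj.hom.left = (x ≫ (prj H a).left) ≫ a.obj.hom.left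
    rw [← hx, ← Over.w φ.hom]
    simp only [Category.assoc, Over.comp_left]
    have e := congrArg CommaMorphism.left (isPullback_prj H φ).w
    simp only [Over.comp_left] at e
    rw [reassoc_of% e]))
  have hm1 : m ≫ φ = kOf H x := by
    refine ObjectProperty.hom_ext _ (Over.OverMorphism.ext (Over.OverMorphism.ext ?_))
    show (z ≫ (prj H c).left) ≫ φ.hom.left.left = x ≫ (prj H a).left
    rw [← hx, Category.assoc, Category.assoc, ← Over.comp_left, ← (isPullback_prj H φ).w]
    rfl
  have hm2 : m ≫ ψ = arrTo h := by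
    refine ObjectProperty.hom_ext _ (Over.OverMorphism.ext (Over.OverMorphism.ext ?_))
    show (z ≫ (prj H c).left) ≫ ψ.hom.left.left = l
    rw [Category.assoc, hl]
  have hz : zOf H x ≫ (H.map m).top.left = z := by
    refine (isPullback_left (isPullback_prj H φ)).hom_ext ?_ ?_
    · rw [Category.assoc, ← Over.comp_left, ← top_comp H, hm1, zOf_top, hx]
    · rw [Category.assoc, ← Over.comp_left, (isPullback_prj H m).w, Over.comp_left, reassoc_of% zOf_prj x]
      rfl
  rw [trans, ← hm2, top_comp H, Over.comp_left, reassoc_of% hz]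

theorem trans_self {x : T ⟶ (H.obj a).P.left} {l : T ⟶ a.obj.left.left} (h : Over2 H x l)
    (hl : x ≫ (prj H a).left = l) : trans h = x := by
  rw [trans_eq (𝟙 a) (𝟙 a) x h (by rw [H.toFunctor.map_id]; exact Category.comp_id x)
    ((congrArg (x ≫ ·) (Category.comp_id _)).trans hl), H.toFunctor.map_id]
  exact Category.comp_id x

theorem trans_nat {T' : Scheme.{u}} (r : T' ⟶ T) {x : T ⟶ (H.obj a).P.left} {l : T ⟶ b.obj.left.left}
    (h : Over2 H x l) {x' : T' ⟶ (H.obj a).P.left} {l' : T' ⟶ b.obj.left.left} (h' : Over2 H x' l')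
    (hx : r ≫ x = x') (hl : r ≫ l = l') : trans h' = r ≫ trans h := by
  rw [trans_eq (kOf H x) (arrTo h) (r ≫ zOf H x) h'
    (by rw [Category.assoc, zOf_top, hx]) (by rw [Category.assoc, reassoc_of% zOf_prj x]; exact hl)]
  exact Category.assoc _ _ _

theorem trans_comp {x : T ⟶ (H.obj a).P.left} {l : T ⟶ b.obj.left.left} (h : Over2 H x l)
    {l' : T ⟶ d.obj.left.left} (h' : Over2 H x l') (h'' : Over2 H (trans h) l') : trans h'' = trans h' := by
  rw [trans_eq (arrTo h) (arrTo h') (zOf H x) h'' rfl (by rw [reassoc_of% zOf_prj x]; rfl)]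
  rfl

theorem trans_map {a' : (Stk.sieveCat R).obj} (φ : a ⟶ a') {x : T ⟶ (H.obj a).P.left} {l : T ⟶ b.obj.left.left}
    (h : Over2 H x l) (h' : Over2 H (x ≫ (H.map φ).top.left) l) : trans h' = trans h := by
  refine trans_eq (arr (a := cOf H x) (b := a) (hatOf H x ≫ prj H a) rfl ≫ φ) (arrTo h) (zOf H x) h' ?_ ?_
  · rw [top_comp H, Over.comp_left, reassoc_of% zOf_top x]
  · rw [reassoc_of% zOf_prj x]; rfl

theorem over2_of_eq {x : T ⟶ (H.obj a).P.left} {l : T ⟶ b.obj.left.left} (h : Over2 H x l)
    {l' : T ⟶ d.obj.left.left} (h' : Over2 H x l') : Over2 H (trans h) l' := by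
  unfold Over2 at h h' ⊢
  rw [h', ← h, reassoc_of% trans_prj h]

end Trans

variable {H} {ι : Type u} {V : ι → Over S} {v : ∀ i, V i ⟶ U}

/-- The member of the family over a member of the covering. -/
noncomputable abbrev oi (hvR : ∀ i, R (v i)) (i : ι) : (Stk.sieveCat R).obj := ob (v i) (hvR i)

variable (H) in
/-- The descent datum of the total spaces. -/
noncomputable def datum (hvR : ∀ i, R (v i)) : Desc.SchDDFam (fun i => (v i).left) where
  obj i := Over.mk (prj H (oi hvR i)).left
  φ T i j x₀ x₁ h :=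
    have hh : ∀ {i j : ι} {y₀ : T ⟶ (V i).left} {y₁ : T ⟶ (V j).left} (_ : y₀ ≫ (v i).left = y₁ ≫ (v j).left)
        (w : Desc.Lifts (Over.mk (prj H (oi hvR i)).left) y₀), Over2 H (a := oi hvR i) (b := oi hvR j) w.1 y₁ :=
      fun h w => h.symm.trans ((congrArg (· ≫ _) w.2.symm).trans (Category.assoc _ _ _))
    { toFun := fun w => ⟨trans (hh h w), trans_prj _⟩
      invFun := fun w => ⟨trans (hh h.symm w), trans_prj _⟩
      left_inv := fun w => Subtype.ext ((trans_comp (hh h w)
        (d := oi hvR i) (l' := x₀) ((congrArg (· ≫ _) w.2.symm).trans (Category.assoc _ _ _))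
        (hh h.symm ⟨_, trans_prj _⟩)).trans (trans_self _ w.2))
      right_inv := fun w => Subtype.ext ((trans_comp (hh h.symm w)
        (d := oi hvR j) (l' := x₁) ((congrArg (· ≫ _) w.2.symm).trans (Category.assoc _ _ _))
        (hh h ⟨_, trans_prj _⟩)).trans (trans_self _ w.2)) }
  φ_natural T T' g i j x₀ x₁ h y₀ y₁ hy₀ hy₁ h' w w' hw := trans_nat g _ _ hw.symm hy₁
  φ_self T i x w := Subtype.ext (trans_self _ w.2)
  φ_comp T i j k x₀ x₁ x₂ h₀₁ h₁₂ w := Subtype.ext (trans_comp _ _ _)

variable (hv : Cov v) (hvR : ∀ i, R (v i))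

include hv hvR in
/-- Families of torsors under an affine group glue to a scheme. -/
theorem exists_isGl [IsAffineHom G.hom] :
    ∃ (P : Over S) (π : P ⟶ U) (e : ∀ a, (H.obj a).P ⟶ P), IsGl π e := by
  haveI : ∀ i, IsAffineHom (prj H (oi hvR i)).left := fun i => by
    have := isAffineHom_π (H.obj (oi hvR i))
    show IsAffineHom ((H.obj (oi hvR i)).π.left ≫ (eqToHom (H.w_obj (oi hvR i))).left)
    infer_instance
  obtain ⟨Y, ⟨I⟩⟩ := DescLib.IndQA.isEffective_of_indQA (fun i => (v i).left) hv (datum H hvR) fun i =>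
    MorLib.IQA.indQA_of_isQuasiAffineHom _ ⟨(inferInstance : QuasiCompact (prj H (oi hvR i)).left), fun W hW =>
      have : IsAffine ((prj H (oi hvR i)).left ⁻¹ᵁ W : Scheme.{u}) := hW.preimage _
      (inferInstance : Scheme.IsQuasiAffine ((prj H (oi hvR i)).left ⁻¹ᵁ W : Scheme.{u}))⟩
  let J : ∀ i, (H.obj (oi hvR i)).P.left ⟶ pullback (v i).left Y.hom := fun i => (I.inv.hom i).left
  have hJ : ∀ i, J i ≫ pullback.fst (v i).left Y.hom = (prj H (oi hvR i)).left := fun i => Over.w (I.inv.hom i)
  have : ∀ i, IsIso (J i) := fun i => ⟨(I.hom.hom i).left,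
    congrArg CommaMorphism.left (congrFun (congrArg Desc.SchDDFam.Hom.hom I.inv_hom_id) i),
    congrArg CommaMorphism.left (congrFun (congrArg Desc.SchDDFam.Hom.hom I.hom_inv_id) i)⟩
  let q : ∀ i, (H.obj (oi hvR i)).P.left ⟶ Y.left := fun i => J i ≫ pullback.snd (v i).left Y.hom
  have sqq : ∀ i, IsPullback (q i) (prj H (oi hvR i)).left Y.hom (v i).left := fun i =>
    (IsPullback.of_hasPullback (v i).left Y.hom).flip.of_iso (asIso (J i)).symm (Iso.refl _) (Iso.refl _) (Iso.refl _)
      (by simp [q]) (by simp [← hJ]) (by simp) (by simp)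
  have hq : ∀ {T : Scheme.{u}} {i j : ι} (x : T ⟶ (H.obj (oi hvR i)).P.left) (l : T ⟶ (V j).left)
      (h : Over2 H (b := oi hvR j) x l), trans h ≫ q j = x ≫ q i := by
    intro T i j x l h
    have := I.inv.comm (x ≫ (prj H (oi hvR i)).left) l ((Category.assoc _ _ _).trans h.symm)
      (⟨x, rfl⟩ : Desc.Lifts ((datum H hvR).obj i) (x ≫ (prj H (oi hvR i)).left))
      ⟨x ≫ J i, by rw [← hJ]; exact Category.assoc _ _ _⟩ rfl
    have := congrArg (· ≫ pullback.snd (v j).left Y.hom) this
    simp only [Desc.toDDFam, Desc.canonicalDDFam, Equiv.coe_fn_mk, Desc.canMapFam_val, pullback.lift_snd,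
      Category.assoc] at this
    exact this.symm
  clear_value q
  let P : Over S := Over.mk (Y.hom ≫ U.hom)
  let π : P ⟶ U := Over.homMk Y.hom rfl
  let qo : ∀ i, (H.obj (oi hvR i)).P ⟶ P := fun i => Over.homMk (q i) (by
    show q i ≫ Y.hom ≫ U.hom = _
    rw [reassoc_of% (sqq i).w, Over.w]
    exact Over.w (prj H (oi hvR i)))
  -- a point of any torsor of the family gives compatible points of the pieces
  have piece : ∀ (a : (Stk.sieveCat R).obj) (i : ι) {W : Over S} (x : W ⟶ (H.obj a).P) (l : W ⟶ V i),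
      x ≫ prj H a ≫ a.obj.hom = l ≫ v i → Over2 H (b := oi hvR i) x.left l.left :=
    fun a i W x l h => (congrArg CommaMorphism.left h).symm
  have hE : ∀ a, ∃ ea : (H.obj a).P ⟶ P, ∀ {T : Scheme.{u}} (i : ι) (x : T ⟶ (H.obj a).P.left)
      (l : T ⟶ (V i).left) (h : Over2 H (b := oi hvR i) x l), x ≫ ea.left = trans h ≫ q i := by
    intro a
    let W : ι → Over S := fun i => pullback (prj H a ≫ a.obj.hom) (v i)
    have hW : ∀ i, Over2 H (b := oi hvR i) (pullback.fst (prj H a ≫ a.obj.hom) (v i)).left
        (pullback.snd (prj H a ≫ a.obj.hom) (v i)).left := fun i => piece a i _ _ pullback.condition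
    let f : ∀ i, W i ⟶ P := fun i => Over.homMk (trans (hW i) ≫ q i) (by
      show (trans (hW i) ≫ q i) ≫ Y.hom ≫ U.hom = _
      rw [Category.assoc, reassoc_of% (sqq i).w, reassoc_of% trans_prj (hW i), Over.w, Over.w])
    obtain ⟨ea, hea⟩ := (hv.pullback_fst (prj H a ≫ a.obj.hom)).exists_desc f fun i j W' r r' hr => by
      refine Over.OverMorphism.ext ?_
      show r.left ≫ trans (hW i) ≫ q i = r'.left ≫ trans (hW j) ≫ q j
      have hx : r.left ≫ (pullback.fst (prj H a ≫ a.obj.hom) (v i)).left =
          r'.left ≫ (pullback.fst (prj H a ≫ a.obj.hom) (v j)).left := congrArg CommaMorphism.left hr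
      have h1 : Over2 H (b := oi hvR i) (r.left ≫ (pullback.fst (prj H a ≫ a.obj.hom) (v i)).left)
          (r.left ≫ (pullback.snd (prj H a ≫ a.obj.hom) (v i)).left) :=
        piece a i (r ≫ pullback.fst _ _) (r ≫ pullback.snd _ _) (by simp [pullback.condition])
      have h2 : Over2 H (b := oi hvR j) (r.left ≫ (pullback.fst (prj H a ≫ a.obj.hom) (v i)).left)
          (r'.left ≫ (pullback.snd (prj H a ≫ a.obj.hom) (v j)).left) := by
        rw [hx]
        exact piece a j (r' ≫ pullback.fst _ _) (r' ≫ pullback.snd _ _) (by simp [pullback.condition])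
      rw [← Category.assoc, ← Category.assoc, ← trans_nat r.left (hW i) h1 rfl rfl,
        ← trans_nat r'.left (hW j) h2 hx.symm rfl, ← trans_comp h1 h2 (over2_of_eq h1 h2)]
      exact (hq _ _ _).symm
    refine ⟨ea, fun {T} i x l h => ?_⟩
    have sqW := isPullback_left (IsPullback.of_hasPullback (prj H a ≫ a.obj.hom) (v i))
    let r := sqW.lift x l h.symm
    have hr1 : r ≫ (pullback.fst (prj H a ≫ a.obj.hom) (v i)).left = x := sqW.lift_fst _ _ _
    rw [trans_nat r (hW i) h hr1 (sqW.lift_snd _ _ _), Category.assoc]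
    conv_lhs => rw [← hr1, Category.assoc, ← Over.comp_left, hea]
    rfl
  choose e he using hE
  have hπe : ∀ a, e a ≫ π = prj H a ≫ a.obj.hom := fun a => by
    refine (hv.pullback_fst (prj H a ≫ a.obj.hom)).hom_ext fun i => Over.OverMorphism.ext ?_
    have h := piece a i _ _ (pullback.condition (f := prj H a ≫ a.obj.hom) (g := v i))
    show (pullback.fst (prj H a ≫ a.obj.hom) (v i)).left ≫ (e a).left ≫ Y.hom = _
    rw [reassoc_of% (he a i _ _ h), (sqq i).w, reassoc_of% trans_prj h]
    exact (congrArg CommaMorphism.left (pullback.condition (f := prj H a ≫ a.obj.hom) (g := v i))).symm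
  refine ⟨P, π, e, ⟨fun a b φ => ?_, fun a => ?_⟩⟩
  · refine (hv.pullback_fst (prj H a ≫ a.obj.hom)).hom_ext fun i => Over.OverMorphism.ext ?_
    have h := piece a i _ _ (pullback.condition (f := prj H a ≫ a.obj.hom) (g := v i))
    have h' : Over2 H (b := oi hvR i)
        ((pullback.fst (prj H a ≫ a.obj.hom) (v i)).left ≫ (H.map φ).top.left)
        (pullback.snd (prj H a ≫ a.obj.hom) (v i)).left :=
      piece b i (pullback.fst _ _ ≫ (H.map φ).top) _ (by
        rw [← pullback.condition, Category.assoc, reassoc_of% (isPullback_prj H φ).w]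
        exact congrArg (_ ≫ _ ≫ ·) (Over.w φ.hom))
    show (pullback.fst (prj H a ≫ a.obj.hom) (v i)).left ≫ (H.map φ).top.left ≫ (e b).left = _
    rw [← Category.assoc, he b i _ _ h', trans_map φ h h']
    exact (he a i _ _ h).symm
  · have sqo : ∀ i, IsPullback (qo i) (prj H (oi hvR i)) π (v i) := fun i => by
      have w : qo i ≫ π = prj H (oi hvR i) ≫ v i := Over.OverMorphism.ext (sqq i).w
      exact IsPullback.of_map (Over.forget S) w (sqq i)
    have main : ∀ (W : Over S) (x : W ⟶ P) (k : W ⟶ a.obj.left), x ≫ π = k ≫ a.obj.hom →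
        ∃! y : W ⟶ (H.obj a).P, y ≫ e a = x ∧ y ≫ prj H a = k := by
      intro W x k hxk
      have hc := hv.pullback_fst (x ≫ π)
      let cst := fun i => pullback.fst (x ≫ π) (v i)
      let li := fun i => pullback.snd (x ≫ π) (v i)
      let p := fun i => (sqo i).lift (cst i ≫ x) (li i) ((Category.assoc _ _ _).trans pullback.condition)
      have hp1 : ∀ i, (p i).left ≫ q i = (cst i).left ≫ x.left := fun i =>
        congrArg CommaMorphism.left ((sqo i).lift_fst _ _ _)
      have hp2 : ∀ i, (p i).left ≫ (prj H (oi hvR i)).left = (li i).left := fun i =>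
        congrArg CommaMorphism.left ((sqo i).lift_snd _ _ _)
      have ho : ∀ i, Over2 H (b := a) (p i).left ((cst i ≫ k).left) := fun i => by
        unfold Over2
        rw [reassoc_of% hp2 i, ← Over.comp_left]
        exact congrArg CommaMorphism.left (show (cst i ≫ k) ≫ a.obj.hom = li i ≫ v i by
          rw [Category.assoc, ← hxk]; exact pullback.condition)
      let y := fun i => (Over.homMk (trans (ho i)) (by
        rw [← Over.w (prj H a), reassoc_of% trans_prj (ho i)]
        exact Over.w (cst i ≫ k)) : pullback (x ≫ π) (v i) ⟶ (H.obj a).P)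
      have hyprj : ∀ i, y i ≫ prj H a = cst i ≫ k := fun i => Over.OverMorphism.ext (trans_prj (ho i))
      have hye : ∀ i, y i ≫ e a = cst i ≫ x := fun i => by
        refine Over.OverMorphism.ext ?_
        have h1 : Over2 H (b := oi hvR i) (trans (ho i)) (li i).left :=
          over2_of_eq (ho i) (by unfold Over2; rw [reassoc_of% hp2 i])
        show trans (ho i) ≫ (e a).left = (cst i).left ≫ x.left
        rw [he a i _ _ h1, ← hp1, trans_comp (ho i) (by unfold Over2; rw [reassoc_of% hp2 i]) h1,
          trans_self _ (hp2 i)]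
      obtain ⟨g, hg⟩ := hc.exists_desc y fun i j W' r r' hr => by
        refine Over.OverMorphism.ext ?_
        show r.left ≫ trans (ho i) = r'.left ≫ trans (ho j)
        have hr' : r ≫ cst i = r' ≫ cst j := hr
        have h1 : Over2 H (b := a) (r.left ≫ (p i).left) (r ≫ cst i ≫ k).left := by
          have := ho i
          unfold Over2 at this ⊢
          simp only [Over.comp_left, Category.assoc] at this ⊢
          rw [this]
        have h2 : Over2 H (b := a) (r'.left ≫ (p j).left) (r' ≫ cst j ≫ k).left := by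
          have := ho j
          unfold Over2 at this ⊢
          simp only [Over.comp_left, Category.assoc] at this ⊢
          rw [this]
        rw [← trans_nat r.left (ho i) h1 rfl rfl, ← trans_nat r'.left (ho j) h2 rfl rfl]
        -- both points have the same image in the glued scheme
        have h3 : Over2 H (b := oi hvR j) (r.left ≫ (p i).left) (r'.left ≫ (li j).left) := by
          unfold Over2
          simp only [Category.assoc]
          rw [reassoc_of% hp2 i]
          refine (congrArg CommaMorphism.left (show r' ≫ li j ≫ v j = r ≫ li i ≫ v i from ?_))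
          rw [← pullback.condition (f := x ≫ π) (g := v i), ← pullback.condition (f := x ≫ π) (g := v j),
            reassoc_of% hr']
        have h4 : trans h3 = r'.left ≫ (p j).left := (sqq j).hom_ext
          (by
            rw [hq _ _ h3, Category.assoc, hp1, Category.assoc, hp1, ← Category.assoc, ← Category.assoc]
            exact congrArg (· ≫ x.left) (congrArg CommaMorphism.left hr'))
          (by rw [trans_prj, Category.assoc, hp2])
        have h2' : Over2 H (b := a) (trans h3) (r' ≫ cst j ≫ k).left := by rw [h4]; exact h2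
        have h1' : Over2 H (b := a) (r.left ≫ (p i).left) (r' ≫ cst j ≫ k).left := by
          rw [← reassoc_of% hr']; exact h1
        have e1 : trans h2 = trans h2' := by congr 1; exact h4.symm
        rw [e1, trans_comp h3 h1' h2']
        congr 1
        rw [reassoc_of% hr']
      refine ⟨g, ⟨hc.hom_ext fun i => by rw [reassoc_of% hg i, hye], hc.hom_ext fun i => by
        rw [reassoc_of% hg i, hyprj]⟩, fun g' hg' => hc.hom_ext fun i => ?_⟩
      rw [hg]
      refine Over.OverMorphism.ext ?_
      show (cst i ≫ g').left = trans (ho i)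
      have h5 : Over2 H (b := oi hvR i) (cst i ≫ g').left (li i).left := by
        refine piece a i _ _ ?_
        rw [Category.assoc, reassoc_of% hg'.2, ← hxk]
        exact pullback.condition
      have h6 : trans h5 = (p i).left := (sqq i).hom_ext
        (by rw [← he a i _ _ h5, hp1, ← Over.comp_left, Category.assoc, hg'.1]; rfl)
        (by rw [trans_prj, hp2])
      have h7 : Over2 H (b := a) (trans h5) (cst i ≫ k).left := by rw [h6]; exact ho i
      have h8 : Over2 H (b := a) (cst i ≫ g').left (cst i ≫ k).left := by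
        unfold Over2
        rw [← Over.comp_left, ← Over.comp_left, ← Over.comp_left]
        refine congrArg CommaMorphism.left ?_
        rw [Category.assoc, Category.assoc, reassoc_of% hg'.2]
      have e2 : trans (ho i) = trans h7 := by congr 1; exact h6.symm
      rw [e2, trans_comp h5 h8 h7, trans_self _ (by rw [← Over.comp_left, Category.assoc, hg'.2])]
    choose y hy huy using main
    exact ⟨⟨hπe a⟩, ⟨PullbackCone.IsLimit.mk _ (fun c => y c.pt c.fst c.snd c.condition)
      (fun c => (hy _ _ _ c.condition).1) (fun c => (hy _ _ _ c.condition).2)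
      fun c m h1 h2 => huy _ _ _ c.condition m ⟨h1, h2⟩⟩⟩

end Groth.Agent.QuotFpqc
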