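import Groth.Agent.QuotFpqc.Cov
import Groth.Agent.QuotLib.Basic
import Groth.Agent.AlgStLib.StackCrit
import Groth.Agent.StkLib.Sieves

/-!
# Quotient categories for the fpqc topology: fibred in groupoids, glued families
-/

set_option autoImplicit false
set_option backward.isDefEq.respectTransparency false
set_option backward.isDefEq.respectTransparency.types false
set_option linter.style.haveILetI false

universe u

open CategoryTheory CategoryTheory.Functor CategoryTheory.Limits MonoidalCategory CartesianMonoidalCategory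
open Opposite AlgebraicGeometry Groth.Agent.FibBase Groth.Agent.StkLib Groth.Agent.AlgStLib Groth.Agent.QuotLib

namespace Groth.Agent.QuotFpqc

variable {S : Scheme.{u}} {G : Over S} [GrpObj G] {X : Over S} {aX : AlgGrp.Action G X}

local notation "Kq" => Scheme.fpqcPrecoverage

/-- Local sections pull back. -/
theorem isLocallyTrivialFor_bc {T T' : Over S} {P P' : Over S} {π : P ⟶ T} {π' : P' ⟶ T'} {q : P' ⟶ P}
    {f : T' ⟶ T} (sq : IsPullback q π' π f)
    (h : NonAbH1.IsLocallyTrivialFor Kq (Over.mk π.left : Over T.left)) :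
    NonAbH1.IsLocallyTrivialFor Kq (Over.mk π'.left : Over T'.left) := by
  obtain ⟨R, hR, hs⟩ := h
  obtain ⟨I₀, Z, g, rfl⟩ := Presieve.exists_eq_ofArrows R
  refine ⟨Presieve.ofArrows (fun i => pullback f.left (g i)) (fun i => pullback.fst f.left (g i)),
    Precoverage.mem_coverings_of_isPullback (J := Scheme.fpqcPrecoverage) g hR f.left _
      (fun i => pullback.snd f.left (g i)) fun i => IsPullback.of_hasPullback _ _, ?_⟩
  rintro _ _ ⟨i⟩
  obtain ⟨s, hs'⟩ := hs (g i) ⟨i⟩
  have sq' : IsPullback q.left π'.left π.left f.left := isPullback_left sq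
  refine ⟨sq'.lift (pullback.snd _ _ ≫ s) (pullback.fst _ _) ?_, sq'.lift_snd _ _ _⟩
  rw [Category.assoc]
  exact (congrArg (pullback.snd f.left (g i) ≫ ·) hs').trans pullback.condition.symm

/-- Local sections glue along a covering. -/
theorem isLocallyTrivialFor_of_cover {T P : Over S} {π : P ⟶ T} {ι : Type u} {V : ι → Over S}
    {v : ∀ i, V i ⟶ T} (hv : Cov v) (Q : ι → Over S) (q : ∀ i, Q i ⟶ P) (πQ : ∀ i, Q i ⟶ V i)
    (hq : ∀ i, q i ≫ π = πQ i ≫ v i)
    (h : ∀ i, NonAbH1.IsLocallyTrivialFor Kq (Over.mk (πQ i).left : Over (V i).left)) :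
    NonAbH1.IsLocallyTrivialFor Kq (Over.mk π.left : Over T.left) := by
  choose R hR hs using h
  have hex : ∀ i, ∃ (κ : Type (u + 1)) (Z : κ → Scheme.{u}) (g : ∀ j, Z j ⟶ (V i).left),
      R i = Presieve.ofArrows Z g := fun i => Presieve.exists_eq_ofArrows (R i)
  choose κ Z g hg using hex
  refine ⟨_, Precoverage.comp_mem_coverings (J := Scheme.fpqcPrecoverage) (fun i => (v i).left) hv g
    (fun i => hg i ▸ hR i), ?_⟩
  rintro _ _ ⟨⟨i, j⟩⟩
  obtain ⟨s, hs'⟩ := hs i (g i j) (hg i ▸ ⟨j⟩)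
  refine ⟨s ≫ (q i).left, ?_⟩
  show (s ≫ (q i).left) ≫ π.left = g i j ≫ (v i).left
  rw [Category.assoc, ← Over.comp_left, hq, Over.comp_left, ← Category.assoc]
  exact congrArg (· ≫ (v i).left) hs'

section Lift

variable (A : AlgSt.QuotObj Kq G aX) {V : Over S} (f : V ⟶ A.base)

/-- The base change of an action along a morphism of the base. -/
noncomputable def liftAct : AlgGrp.Action G (pullback A.π f) where
  act := pullback.lift ((G ◁ pullback.fst _ _) ≫ A.act.act) (snd G _ ≫ pullback.snd _ _)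
    (by rw [Category.assoc, A.cart.w, whiskerLeft_snd_assoc, pullback.condition, Category.assoc])
  one_act := by
    apply pullback.hom_ext
    · rw [Category.assoc, pullback.lift_fst, ← whisker_exchange_assoc, A.act.one_act, leftUnitor_naturality]
    · rw [Category.assoc, pullback.lift_snd, whiskerRight_snd_assoc, leftUnitor_hom]
  mul_act := by
    apply pullback.hom_ext
    · rw [Category.assoc, pullback.lift_fst, ← whisker_exchange_assoc, A.act.mul_act]
      simp only [Category.assoc, pullback.lift_fst]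
      rw [← MonoidalCategory.whiskerLeft_comp_assoc, pullback.lift_fst, MonoidalCategory.whiskerLeft_comp_assoc,
        associator_naturality_right_assoc]
    · simp only [Category.assoc, pullback.lift_snd, whiskerRight_snd_assoc, whiskerLeft_snd_assoc]
      rw [← Category.assoc, ← Category.assoc]
      refine congrArg (· ≫ pullback.snd _ _) ?_
      simp

/-- The chosen lift of a morphism of the base. -/
noncomputable def liftObj : AlgSt.QuotObj Kq G aX where
  base := V
  P := pullback A.π f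
  act := liftAct A f
  π := pullback.snd _ _
  cart := IsPullback.of_right (h₁₂ := pullback.fst _ _) (v₁₃ := A.π) (h₂₂ := f) (by
      have := (AlgSt.isPullback_whiskerLeft (G := G) (pullback.fst A.π f)).paste_horiz A.cart
      rw [pullback.condition] at this
      simpa [liftAct] using this)
    (by simp [liftAct]) (IsPullback.of_hasPullback _ _)
  loc := isLocallyTrivialFor_bc (IsPullback.of_hasPullback _ _) A.loc
  φ := pullback.fst _ _ ≫ A.φ
  eqv := by
    rw [liftAct, pullback.lift_fst_assoc, Category.assoc, A.eqv, MonoidalCategory.whiskerLeft_comp, Category.assoc]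

/-- The chosen lift. -/
noncomputable def liftHom : liftObj A f ⟶ A :=
  { base := f
    top := pullback.fst _ _
    eqv := pullback.lift_fst _ _ _
    cart := IsPullback.of_hasPullback _ _
    wφ := rfl }

end Lift

/-- Quotient categories are fibred in groupoids. -/
theorem isFibGrpd : FibCat.IsFibGrpd (AlgSt.QuotSt Kq G aX).p where
  exists_lift {A} {V} f := ⟨liftObj A f, liftHom A f, IsHomLift.map (AlgSt.QuotSt Kq G aX).p (liftHom A f)⟩
  isStronglyCartesian {A' A} φ :=
    { universal_property' := fun {A''} g φ' hφ' => by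
        have hg : g ≫ φ.base = φ'.base :=
          IsHomLift.eq_of_isHomLift (AlgSt.QuotSt Kq G aX).p (g ≫ (AlgSt.QuotSt Kq G aX).p.map φ) φ'
        refine ⟨homLift φ φ' g hg,
          ⟨IsHomLift.map (AlgSt.QuotSt Kq G aX).p (homLift φ φ' g hg), homLift_comp φ φ' g hg⟩, ?_⟩
        rintro χ' ⟨hχ', hc⟩
        have hb' : χ'.base = g := (IsHomLift.eq_of_isHomLift (AlgSt.QuotSt Kq G aX).p g χ').symm
        exact hom_ext_of_comp φ hb' (hc.trans (homLift_comp φ φ' g hg).symm) }

variable {U : Over S} {R : Sieve U} (H : Stk.sieveCat R ⥤ᵇ AlgSt.QuotSt Kq G aX)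

/-- An object of a sieve. -/
abbrev ob {V : Over S} (f : V ⟶ U) (hf : R f) : (Stk.sieveCat R).obj := ⟨Over.mk f, hf⟩

/-- The arrow of objects of a sieve given by a factorisation. -/
abbrev arr {a b : (Stk.sieveCat R).obj} (k : a.obj.left ⟶ b.obj.left) (w : k ≫ b.obj.hom = a.obj.hom) : a ⟶ b :=
  ObjectProperty.homMk (Over.homMk k w)

theorem map_base {a b : (Stk.sieveCat R).obj} (φ : a ⟶ b) :
    (H.map φ).base = eqToHom (H.w_obj a) ≫ φ.hom.left ≫ eqToHom (H.w_obj b).symm := w_map H φ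

/-- The projection of a torsor to the object of the sieve. -/
noncomputable def prj (a : (Stk.sieveCat R).obj) : (H.obj a).P ⟶ a.obj.left :=
  (H.obj a).π ≫ eqToHom (H.w_obj a)

theorem isPullback_prj {a b : (Stk.sieveCat R).obj} (φ : a ⟶ b) :
    IsPullback (H.map φ).top (prj H a) (prj H b) φ.hom.left := by
  refine (H.map φ).cart.paste_vert (IsPullback.of_vert_isIso ⟨?_⟩)
  rw [map_base H φ]
  simp

theorem top_comp {a b c : (Stk.sieveCat R).obj} (φ : a ⟶ b) (ψ : b ⟶ c) :
    (H.map (φ ≫ ψ)).top = (H.map φ).top ≫ (H.map ψ).top := by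
  rw [H.toFunctor.map_comp]
  rfl

theorem cart_prj (a : (Stk.sieveCat R).obj) :
    IsPullback (H.obj a).act.act (snd G (H.obj a).P) (prj H a) (prj H a) :=
  (H.obj a).cart.of_iso (Iso.refl _) (Iso.refl _) (Iso.refl _) (eqToIso (H.w_obj a))
    (by simp) (by simp) (by simp [prj]) (by simp [prj])

variable {H}

/-- A scheme over `U` restricting to the family of torsors. -/
structure IsGl {P : Over S} (π : P ⟶ U) (e : ∀ a, (H.obj a).P ⟶ P) : Prop where
  nat : ∀ ⦃a b : (Stk.sieveCat R).obj⦄ (φ : a ⟶ b), (H.map φ).top ≫ e b = e a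
  sq : ∀ a, IsPullback (e a) (prj H a) π a.obj.hom

variable {ι : Type u} {V : ι → Over S} {v : ∀ i, V i ⟶ U} (hv : Cov v) (hvR : ∀ i, R (v i))
  {P : Over S} {π : P ⟶ U} {e : ∀ a, (H.obj a).P ⟶ P} (hg : IsGl π e)

include hg in
/-- Two local points with the same image come from a common local point. -/
theorem IsGl.common {a b : (Stk.sieveCat R).obj} {W : Over S} (x : W ⟶ (H.obj a).P) (y : W ⟶ (H.obj b).P)
    (h : x ≫ e a = y ≫ e b) :
    ∃ (c : (Stk.sieveCat R).obj) (φ : c ⟶ a) (ψ : c ⟶ b) (z : W ⟶ (H.obj c).P),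
      z ≫ (H.map φ).top = x ∧ z ≫ (H.map ψ).top = y := by
  let c : (Stk.sieveCat R).obj := ob ((x ≫ prj H a) ≫ a.obj.hom) (R.downward_closed a.property _)
  let φ : c ⟶ a := arr (x ≫ prj H a) rfl
  let ψ : c ⟶ b := arr (y ≫ prj H b) (by
    show (y ≫ prj H b) ≫ b.obj.hom = (x ≫ prj H a) ≫ a.obj.hom
    rw [Category.assoc, Category.assoc, ← (hg.sq b).w, ← (hg.sq a).w, reassoc_of% h])
  let z := (isPullback_prj H φ).lift x (𝟙 _) (Category.id_comp _).symm
  have hz1 : z ≫ (H.map φ).top = x := IsPullback.lift_fst _ _ _ _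
  have hz2 : z ≫ prj H c = 𝟙 _ := IsPullback.lift_snd _ _ _ _
  refine ⟨c, φ, ψ, z, hz1, (hg.sq b).hom_ext ?_ ?_⟩
  · rw [Category.assoc, hg.nat, ← hg.nat φ, reassoc_of% hz1, h]
  · rw [Category.assoc, (isPullback_prj H ψ).w, reassoc_of% hz2]
    rfl

include hg hv in
/-- The pieces cover. -/
theorem IsGl.cov : Cov (fun i => e (ob (v i) (hvR i))) :=
  hv.bc π _ (fun i => prj H (ob (v i) (hvR i))) fun i => hg.sq _

include hg hv in
theorem IsGl.cov_tensor (Y : Over S) : Cov (fun i => Y ◁ e (ob (v i) (hvR i))) :=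
  (hg.cov hv hvR).bc (snd Y P) _ (fun i => snd Y _) fun _ => AlgSt.isPullback_whiskerLeft _

include hg hv hvR in
theorem IsGl.hom_ext {Z : Over S} {f g : P ⟶ Z} (h : ∀ a, e a ≫ f = e a ≫ g) : f = g :=
  (hg.cov hv hvR).hom_ext fun _ => h _

include hg hv hvR in
theorem IsGl.hom_ext_tensor {Y Z : Over S} {f g : Y ⊗ P ⟶ Z} (h : ∀ a, (Y ◁ e a) ≫ f = (Y ◁ e a) ≫ g) : f = g :=
  (hg.cov_tensor hv hvR Y).hom_ext fun _ => h _

include hg hv hvR in
theorem IsGl.exists_desc_tensor {Y Z : Over S} (f : ∀ a, Y ⊗ (H.obj a).P ⟶ Z)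
    (hf : ∀ ⦃a b : (Stk.sieveCat R).obj⦄ (φ : a ⟶ b), (Y ◁ (H.map φ).top) ≫ f b = f a) :
    ∃ ψ : Y ⊗ P ⟶ Z, ∀ a, (Y ◁ e a) ≫ ψ = f a := by
  have compat : ∀ a b (W : Over S) (u : W ⟶ Y ⊗ (H.obj a).P) (w : W ⟶ Y ⊗ (H.obj b).P),
      u ≫ (Y ◁ e a) = w ≫ (Y ◁ e b) → u ≫ f a = w ≫ f b := by
    intro a b W u w h
    have h1 : u ≫ fst _ _ = w ≫ fst _ _ := by simpa using congrArg (· ≫ fst _ _) h
    have h2 : (u ≫ snd _ _) ≫ e a = (w ≫ snd _ _) ≫ e b := by simpa using congrArg (· ≫ snd _ _) h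
    obtain ⟨c, φ, ψ, z, hz1, hz2⟩ := hg.common _ _ h2
    have hu : u = lift (u ≫ fst _ _) z ≫ (Y ◁ (H.map φ).top) := by ext <;> simp [hz1]
    have hw : w = lift (u ≫ fst _ _) z ≫ (Y ◁ (H.map ψ).top) := by ext <;> simp [hz2, h1]
    rw [hw, hu, Category.assoc, Category.assoc, hf, hf]
    simp
  obtain ⟨ψ, hψ⟩ := (hg.cov_tensor hv hvR Y).exists_desc (fun i => f _)
    fun i j W a b hab => compat _ _ W a b hab
  refine ⟨ψ, fun a => ((hg.cov_tensor hv hvR Y).pullback_fst (Y ◁ e a)).hom_ext fun i => ?_⟩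
  rw [pullback.condition_assoc, hψ]
  exact (compat _ _ _ _ _ pullback.condition).symm

include hg hv hvR in
theorem IsGl.exists_desc {Z : Over S} (f : ∀ a, (H.obj a).P ⟶ Z)
    (hf : ∀ ⦃a b : (Stk.sieveCat R).obj⦄ (φ : a ⟶ b), (H.map φ).top ≫ f b = f a) :
    ∃ ψ : P ⟶ Z, ∀ a, e a ≫ ψ = f a := by
  obtain ⟨ψ, hψ⟩ := hg.exists_desc_tensor hv hvR (Y := 𝟙_ _) (fun a => snd _ _ ≫ f a)
    fun a b φ => by rw [whiskerLeft_snd_assoc, hf]
  refine ⟨(λ_ P).inv ≫ ψ, fun a => ?_⟩
  rw [leftUnitor_inv_naturality_assoc, hψ, ← leftUnitor_hom, Iso.inv_hom_id_assoc]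

include hg hv hvR in
/-- A glued scheme with an action making the local projections equivariant is a pseudo-torsor. -/
theorem IsGl.cart (act : G ⊗ P ⟶ P) (hact : ∀ a, (G ◁ e a) ≫ act = (H.obj a).act.act ≫ e a)
    (hwact : act ≫ π = snd G P ≫ π) : IsPullback act (snd G P) π π := by
  have huniq : ∀ (W : Over S) (g g' : W ⟶ G) (y : W ⟶ P),
      lift g y ≫ act = lift g' y ≫ act → g = g' := by
    intro W g g' y h
    refine ((hg.cov hv hvR).pullback_fst y).hom_ext fun i => ?_
    let k := pullback.fst y (e (ob (v i) (hvR i)))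
    let yi := pullback.snd y (e (ob (v i) (hvR i)))
    have hk : ∀ g : W ⟶ G, lift (k ≫ g) yi ≫ (G ◁ e (ob (v i) (hvR i))) = k ≫ lift g y := fun g => by
      ext <;> simp [k, yi, pullback.condition]
    have h' : lift (k ≫ g) yi ≫ (H.obj _).act.act = lift (k ≫ g') yi ≫ (H.obj _).act.act := by
      refine (hg.sq _).hom_ext ?_ ?_
      · rw [Category.assoc, Category.assoc, ← hact, reassoc_of% (hk g), reassoc_of% (hk g'), h]
      · rw [Category.assoc, Category.assoc, (cart_prj H _).w, lift_snd_assoc, lift_snd_assoc]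
    have := (cart_prj H _).hom_ext h' (by rw [lift_snd, lift_snd])
    simpa using congrArg (· ≫ fst _ _) this
  have hex : ∀ (W : Over S) (x y : W ⟶ P), x ≫ π = y ≫ π → ∃ g : W ⟶ G, lift g y ≫ act = x := by
    intro W x y h
    let k := fun i => pullback.fst y (e (ob (v i) (hvR i)))
    let yi := fun i => pullback.snd y (e (ob (v i) (hvR i)))
    have hc := (hg.cov hv hvR).pullback_fst y
    have hx : ∀ i, (k i ≫ x) ≫ π = (yi i ≫ prj H (ob (v i) (hvR i))) ≫ v i := fun i => by
      rw [Category.assoc, h, pullback.condition_assoc, Category.assoc, (hg.sq _).w]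
      rfl
    let xi := fun i => (hg.sq (ob (v i) (hvR i))).lift (k i ≫ x) (yi i ≫ prj H _) (hx i)
    let wi := fun i => (cart_prj H (ob (v i) (hvR i))).lift (xi i) (yi i) (IsPullback.lift_snd _ _ _ _)
    have hwi : ∀ i, lift (wi i ≫ fst _ _) (k i ≫ y) ≫ act = k i ≫ x := fun i => by
      have e1 : lift (wi i ≫ fst _ _) (k i ≫ y) = wi i ≫ (G ◁ e (ob (v i) (hvR i))) := by
        ext
        · simp
        · simp only [lift_snd, Category.assoc, whiskerLeft_snd, wi, IsPullback.lift_snd_assoc]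
          exact congrArg CommaMorphism.left (pullback.condition (f := y) (g := e (ob (v i) (hvR i))))
      rw [e1, Category.assoc, hact, IsPullback.lift_fst_assoc, IsPullback.lift_fst]
    obtain ⟨g, hg'⟩ := hc.exists_desc (fun i => wi i ≫ fst _ _) fun i j W' a b hab => by
      refine huniq W' _ _ (a ≫ k i ≫ y) ?_
      have hi := congrArg (a ≫ ·) (hwi i)
      have hj := congrArg (b ≫ ·) (hwi j)
      have hab' : a ≫ k i = b ≫ k j := hab
      simp only [comp_lift_assoc] at hi hj
      rw [hi, reassoc_of% hab', ← hj, ← reassoc_of% hab']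
    refine ⟨g, hc.hom_ext fun i => ?_⟩
    rw [comp_lift_assoc, hg']
    exact hwi i
  choose g hg' using hex
  refine ⟨⟨hwact⟩, ⟨PullbackCone.IsLimit.mk _ (fun s => lift (g _ s.fst s.snd s.condition) s.snd)
    (fun s => hg' _ _ _ _) (fun s => lift_snd _ _) fun s m h1 h2 => ?_⟩⟩
  have h2' : m ≫ snd G P = s.snd := h2
  have hm : m = lift (m ≫ fst _ _) s.snd := by ext <;> simp [h2']
  refine CartesianMonoidalCategory.hom_ext _ _ ?_ (by rw [lift_snd]; exact h2)
  rw [lift_fst]
  refine huniq _ _ _ s.snd ?_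
  rw [← hm, hg']
  exact h1

end Groth.Agent.QuotFpqc
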