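import Groth.Agent.QuotFpqc.Descend

/-!
# Quotient categories with scheme torsors under an affine group are fpqc stacks
-/

set_option autoImplicit false
set_option backward.isDefEq.respectTransparency false
set_option backward.isDefEq.respectTransparency.types false
set_option linter.style.haveILetI false

universe u

open CategoryTheory CategoryTheory.Functor CategoryTheory.Limits MonoidalCategory CartesianMonoidalCategory
open Opposite AlgebraicGeometry Groth.Agent.FibBase Groth.Agent.StkLib Groth.Agent.AlgStLib Groth.Agent.QuotLib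

namespace Groth.Agent.QuotFpqc

variable {S : Scheme.{u}} {G : Over S} [GrpObj G] {X : Over S} {aX : AlgGrp.Action G X}

local notation "Kq" => Scheme.fpqcPrecoverage

variable {U : Over S} {R : Sieve U} {H : Stk.sieveCat R ⥤ᵇ AlgSt.QuotSt Kq G aX}

theorem cone_base (c : SieveCone H) (a : (Stk.sieveCat R).obj) :
    (c.e a).base ≫ eqToHom c.obj_pt = eqToHom (H.w_obj a) ≫ a.obj.hom := by
  have := c.lift a
  have h := IsHomLift.fac' (AlgSt.QuotSt Kq G aX).p a.obj.hom (c.e a)
  change (c.e a).base = _ at h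
  rw [h]
  simp

/-- The projection of the point of a cone. -/
noncomputable def ptπ (c : SieveCone H) : c.pt.P ⟶ U := c.pt.π ≫ eqToHom c.obj_pt

theorem isGl_cone (c : SieveCone H) : IsGl (ptπ c) fun a => (c.e a).top where
  nat a b φ := congrArg (fun t : H.obj a ⟶ c.pt => AlgSt.QuotObj.Hom.top t) (c.nat φ)
  sq a := (c.e a).cart.paste_vert (IsPullback.of_vert_isIso ⟨by rw [cone_base]⟩)

variable (hR : R ∈ QuotSh.J Scheme.fpqcPrecoverage S U)

include hR in
/-- Cones of torsors are universal. -/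
theorem isUniversal (c : SieveCone H) : c.IsUniversal := fun c' => by
  obtain ⟨ι, V, v, hv, hvR⟩ := exists_cov_of_mem hR
  have hg := isGl_cone c
  have hg' := isGl_cone c'
  obtain ⟨ψ, hψ⟩ := hg.exists_desc hv hvR (fun a => (c'.e a).top) hg'.nat
  obtain ⟨ψ', hψ'⟩ := hg'.exists_desc hv hvR (fun a => (c.e a).top) hg.nat
  have : IsIso ψ := ⟨ψ', hg.hom_ext hv hvR fun a => by rw [reassoc_of% hψ a, hψ', Category.comp_id],
    hg'.hom_ext hv hvR fun a => by rw [reassoc_of% hψ' a, hψ, Category.comp_id]⟩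
  let w : c.pt.base = c'.pt.base := c.obj_pt.trans c'.obj_pt.symm
  have hbot : ψ ≫ c'.pt.π = c.pt.π ≫ eqToHom w := hg.hom_ext hv hvR fun a => by
    rw [← Category.assoc, hψ]
    refine (cancel_mono (eqToHom c'.obj_pt)).1 ?_
    simp only [Category.assoc, eqToHom_trans]
    exact (hg'.sq a).w.trans (hg.sq a).w.symm
  let φ : c.pt ⟶ c'.pt :=
    { base := eqToHom w
      top := ψ
      eqv := hg.hom_ext_tensor hv hvR fun a => by
        rw [← Category.assoc, ← (c.e a).eqv, Category.assoc, hψ, ← MonoidalCategory.whiskerLeft_comp_assoc, hψ,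
          (c'.e a).eqv]
      cart := IsPullback.of_horiz_isIso ⟨hbot⟩
      wφ := hg.hom_ext hv hvR fun a => by rw [← Category.assoc, hψ, (c'.e a).wφ, (c.e a).wφ] }
  refine ⟨φ, ⟨IsHomLift.of_fac' _ _ φ c.obj_pt c'.obj_pt (by simp [φ, AlgSt.QuotObj.forget]), fun a => ?_⟩, ?_⟩
  · refine AlgSt.QuotObj.hom_ext ?_ (hψ a)
    show (c.e a).base ≫ eqToHom w = (c'.e a).base
    rw [← cancel_mono (eqToHom c'.obj_pt), Category.assoc, eqToHom_trans, cone_base, cone_base]
  · rintro φ' ⟨hφ', he⟩
    refine AlgSt.QuotObj.hom_ext ?_ (hg.hom_ext hv hvR fun a => ?_)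
    · have h := IsHomLift.fac' (AlgSt.QuotSt Kq G aX).p (𝟙 U) φ'
      change φ'.base = _ at h
      rw [h]
      simp [φ]
    · exact (congrArg (fun t : H.obj a ⟶ c'.pt => AlgSt.QuotObj.Hom.top t) (he a)).trans (hψ a).symm

include hR in
/-- Families of torsors under an affine group glue. -/
theorem exists_cone [IsAffineHom G.hom] (H : Stk.sieveCat R ⥤ᵇ AlgSt.QuotSt Kq G aX) :
    Nonempty (SieveCone H) := by
  obtain ⟨ι, V, v, hv, hvR⟩ := exists_cov_of_mem hR
  obtain ⟨P, π, e, hg⟩ := exists_isGl (H := H) hv hvR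
  obtain ⟨act, hact⟩ := hg.exists_desc_tensor hv hvR (Y := G) (fun a => (H.obj a).act.act ≫ e a)
    fun a b φ => by rw [← Category.assoc, ← (H.map φ).eqv, Category.assoc, hg.nat φ]
  have hext : ∀ {Y Z : Over S} {f g : Y ⊗ P ⟶ Z}, (∀ a, (Y ◁ e a) ≫ f = (Y ◁ e a) ≫ g) → f = g :=
    fun {Y Z f g} h => hg.hom_ext_tensor hv hvR h
  let aP : AlgGrp.Action G P :=
    { act := act
      one_act := hext fun a => by
        rw [whisker_exchange_assoc, hact, ← Category.assoc, (H.obj a).act.one_act, ← leftUnitor_naturality]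
      mul_act := hext fun a => by
        rw [whisker_exchange_assoc, hact, ← Category.assoc, (H.obj a).act.mul_act,
          associator_naturality_right_assoc, ← MonoidalCategory.whiskerLeft_comp_assoc, hact,
          MonoidalCategory.whiskerLeft_comp_assoc, hact]
        simp only [Category.assoc] }
  have hwact : act ≫ π = snd G P ≫ π := hext fun a => by
    rw [reassoc_of% (hact a), (hg.sq a).w, prj, Category.assoc, reassoc_of% (H.obj a).cart.w, whiskerLeft_snd_assoc,
      (hg.sq a).w, prj]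
    simp only [Category.assoc]
  obtain ⟨φ, hφ⟩ := hg.exists_desc hv hvR (fun a => (H.obj a).φ) fun a b ψ => (H.map ψ).wφ
  have hloc : NonAbH1.IsLocallyTrivialFor Kq (Over.mk π.left : Over U.left) := by
    refine isLocallyTrivialFor_of_cover hv _ (fun i => e (oi hvR i)) (fun i => prj H (oi hvR i))
      (fun i => (hg.sq (oi hvR i)).w) fun i => ?_
    exact isLocallyTrivialFor_bc (q := 𝟙 _) (f := eqToHom (H.w_obj (oi hvR i)).symm)
      (IsPullback.of_horiz_isIso ⟨by simp [prj]⟩) (H.obj (oi hvR i)).loc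
  let A : AlgSt.QuotObj Kq G aX :=
    { base := U, P := P, act := aP, π := π, cart := hg.cart hv hvR act hact hwact, loc := hloc, φ := φ
      eqv := hext fun a => by
        show (G ◁ e a) ≫ act ≫ φ = (G ◁ e a) ≫ (G ◁ φ) ≫ aX.act
        rw [reassoc_of% (hact a), hφ, ← MonoidalCategory.whiskerLeft_comp_assoc, hφ]
        exact (H.obj a).eqv }
  let eH : ∀ a, H.obj a ⟶ A := fun a =>
    { base := eqToHom (H.w_obj a) ≫ a.obj.hom
      top := e a
      eqv := (hact a).symm
      cart := (hg.sq a).of_iso (Iso.refl _) (Iso.refl _) (eqToIso (H.w_obj a)).symm (Iso.refl _)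
        (by simp [A]) (by simp [prj]) (by simp [A]) (by simp)
      wφ := hφ a }
  exact ⟨⟨A, rfl, eH, fun a => IsHomLift.of_fac' _ _ (eH a) (H.w_obj a) rfl (by simp [eH, A, AlgSt.QuotObj.forget]),
    fun {a a'} g => AlgSt.QuotObj.hom_ext (by
      show (H.map g).base ≫ eqToHom (H.w_obj a') ≫ a'.obj.hom = eqToHom (H.w_obj a) ≫ a.obj.hom
      rw [map_base H g]
      simp) (hg.nat g)⟩⟩

/-- Quotient categories with scheme torsors under an affine group are fpqc stacks. -/
theorem isStack [IsAffineHom G.hom] :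
    Stk.IsStack (QuotSh.J Scheme.fpqcPrecoverage S) (AlgSt.QuotSt Kq G aX) :=
  ⟨isFibGrpd, fun _ _ hR => isStackFor_of_cones isFibGrpd (fun c => isUniversal hR c) (exists_cone hR)⟩

end Groth.Agent.QuotFpqc
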